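import Mathlib
import Groth.Prelude.Def_Flat
import Groth.Agent.Lib.EtBasicB.OverField
import Groth.Agent.Lib.Weight.GeomPoints

/-! # Etale maps of fibres; local dimension along open maps with discrete fibres -/

open CategoryTheory Limits AlgebraicGeometry TopologicalSpace

universe u

namespace GrothLib.EtFibre

theorem etale_specMap_residueFieldMap {V V' : Scheme.{u}} (b : V' ⟶ V) [Etale b] (v : V') :
    Etale (Spec.map (b.residueFieldMap v)) := by
  haveI := GrothLib.EtBasicB.locallyQuasiFinite_of_unramified b
  have h : (b.residueFieldMap v).hom.Finite := GrothLib.Weight.finite_residueFieldMap b v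
  letI := (b.residueFieldMap v).hom.toAlgebra
  haveI : Module.Finite (V.residueField (b v)) (V'.residueField v) := h
  haveI : Algebra.IsSeparable (V.residueField (b v)) (V'.residueField v) := inferInstance
  haveI : Algebra.FormallyEtale (V.residueField (b v)) (V'.residueField v) :=
    Algebra.FormallyEtale.of_isSeparable _ _
  haveI : Algebra.FinitePresentation (V.residueField (b v)) (V'.residueField v) :=
    Algebra.FinitePresentation.of_finiteType.mp inferInstance
  haveI : Algebra.Etale (V.residueField (b v)) (V'.residueField v) := ⟨inferInstance, inferInstance⟩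
  exact (HasRingHomProperty.Spec_iff (P := @Etale)).mpr
    (RingHom.etale_algebraMap.mpr this)

theorem etale_fiberMap {U U' V V' : Scheme.{u}} (h : U ⟶ V) (h' : U' ⟶ V') (a : U' ⟶ U)
    (b : V' ⟶ V) [Etale a] [Etale b] (comm : h' ≫ b = a ≫ h) (v' : V')
    (φ : h'.fiber v' ⟶ h.fiber (b v')) (hφ1 : φ ≫ h.fiberι (b v') = h'.fiberι v' ≫ a)
    (hφ2 : φ ≫ h.fiberToSpecResidueField (b v') =
      h'.fiberToSpecResidueField v' ≫ Spec.map (b.residueFieldMap v')) :
    Etale φ := by
  -- `W = V'_v`, `P = U'_v`
  have hw : Spec.map (b.residueFieldMap v') ≫ V.fromSpecResidueField (b v') =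
      V'.fromSpecResidueField v' ≫ b := Scheme.Hom.SpecMap_residueFieldMap_fromSpecResidueField _ _
  let w : Spec (V'.residueField v') ⟶ pullback b (V.fromSpecResidueField (b v')) :=
    pullback.lift (V'.fromSpecResidueField v') (Spec.map (b.residueFieldMap v')) hw.symm
  haveI : Etale w := by
    haveI : Etale (w ≫ pullback.snd b (V.fromSpecResidueField (b v'))) := by
      rw [pullback.lift_snd]; exact etale_specMap_residueFieldMap b v'
    exact Etale.of_comp w (pullback.snd b (V.fromSpecResidueField (b v')))
  -- `π : U'_v ⟶ V'_v`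
  let π : pullback a (h.fiberι (b v')) ⟶ pullback b (V.fromSpecResidueField (b v')) :=
    pullback.lift (pullback.fst _ _ ≫ h')
      (pullback.snd _ _ ≫ h.fiberToSpecResidueField (b v'))
      (by
        rw [Category.assoc, comm, pullback.condition_assoc, Category.assoc]
        congr 1
        exact pullback.condition)
  let χ : h'.fiber v' ⟶ pullback a (h.fiberι (b v')) :=
    pullback.lift (h'.fiberι v') φ hφ1.symm
  have sq : IsPullback χ (h'.fiberToSpecResidueField v') π w := by
    have hcomm : χ ≫ π = h'.fiberToSpecResidueField v' ≫ w := by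
      apply pullback.hom_ext
      · simp only [χ, π, w, Category.assoc, pullback.lift_fst, pullback.lift_fst_assoc]
        exact pullback.condition
      · simp only [χ, π, w, Category.assoc, pullback.lift_snd, pullback.lift_snd_assoc]
        exact hφ2
    have hP : IsPullback (pullback.fst a (h.fiberι (b v'))) π h'
        (pullback.fst b (V.fromSpecResidueField (b v'))) := by
      have h0 : IsPullback (pullback.fst a (h.fiberι (b v')))
          (pullback.snd a (h.fiberι (b v')) ≫ h.fiberToSpecResidueField (b v')) (a ≫ h)
          (V.fromSpecResidueField (b v')) :=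
        (IsPullback.of_hasPullback a (h.fiberι (b v'))).paste_vert
          (IsPullback.of_hasPullback h (V.fromSpecResidueField (b v')))
      rw [← comm] at h0
      refine IsPullback.of_bot ?_ (pullback.lift_fst _ _ _).symm
        (IsPullback.of_hasPullback b (V.fromSpecResidueField (b v')))
      simpa only [π, pullback.lift_snd] using h0
    refine IsPullback.of_right ?_ hcomm hP
    simp only [χ, w, pullback.lift_fst]
    exact IsPullback.of_hasPullback h' (V'.fromSpecResidueField v')
  haveI : Etale χ := MorphismProperty.of_isPullback sq.flip ‹Etale w›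
  have : φ = χ ≫ pullback.snd a (h.fiberι (b v')) := (pullback.lift_snd _ _ _).symm
  rw [this]; infer_instance

section Dim

variable {X Y : Type u} [TopologicalSpace X] [TopologicalSpace Y]

/-- A chain of points, ordered by specialization, lifts along a generalizing map. -/
theorem coheight_le_of_generalizingMap {f : X → Y} (hf : Continuous f) (hg : GeneralizingMap f) (x : X) :
    letI := specializationPreorder X
    letI := specializationPreorder Y
    Order.coheight (f x) ≤ Order.coheight x := by
  letI := specializationPreorder X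
  letI := specializationPreorder Y
  have key : ∀ (n : ℕ) (p : LTSeries Y) (x : X), p.length = n → p.head = f x →
      ∃ q : LTSeries X, q.length = n ∧ q.head = x := by
    intro n
    induction n with
    | zero => intro p x _ _; exact ⟨RelSeries.singleton _ x, rfl, rfl⟩
    | succ n ih =>
      intro p x hn hx
      have hp : p.length ≠ 0 := by omega
      have h1 : f x < (p.tail hp).head := by
        rw [RelSeries.head_tail, ← hx]
        exact p.strictMono (by
          simp only [RelSeries.head, Fin.lt_def, Fin.val_zero]
          rw [Fin.val_one']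
          exact lt_of_lt_of_le zero_lt_one (by rw [Nat.mod_eq_of_lt (by omega)]))
      obtain ⟨x', hxx, hfx⟩ := hg h1.le
      have hlt : x < x' := by
        refine lt_of_le_not_ge hxx fun h2 => ?_
        refine h1.not_ge ?_
        rw [← hfx]
        exact Specializes.map h2 hf
      obtain ⟨q, hq1, hq2⟩ := ih (p.tail hp) x' (by rw [RelSeries.tail_length]; omega) hfx.symm
      exact ⟨q.cons x (by rw [hq2]; exact hlt), by simp [hq1], RelSeries.head_cons _ _ _⟩
  refine Order.coheight_le_iff'.mpr fun p hp => ?_
  obtain ⟨q, hq1, hq2⟩ := key p.length p x rfl hp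
  exact hq1 ▸ hq2 ▸ Order.length_le_coheight_head

theorem topologicalKrullDim_eq_krullDim [QuasiSober X] [T0Space X] :
    letI := specializationOrder X
    topologicalKrullDim X = Order.krullDim X :=
  letI := specializationOrder X
  Order.krullDim_eq_of_orderIso irreducibleSetEquivPoints

variable [QuasiSober X] [T0Space X] [QuasiSober Y] [T0Space Y]

theorem topologicalKrullDim_le_of_injOn {f : X → Y} (hf : Continuous f)
    (hd : ∀ a b, a ⤳ b → f a = f b → a = b) :
    topologicalKrullDim X ≤ topologicalKrullDim Y := by
  letI := specializationOrder X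
  letI := specializationOrder Y
  rw [topologicalKrullDim_eq_krullDim, topologicalKrullDim_eq_krullDim]
  refine Order.krullDim_le_of_strictMono f fun a b hab => ?_
  refine lt_of_le_of_ne (Specializes.map hab.le hf) fun he => hab.ne ?_
  exact (hd b a hab.le he.symm).symm

theorem topologicalKrullDim_le_of_surjective {f : X → Y} (hf : Continuous f)
    (hg : GeneralizingMap f) (hs : Function.Surjective f) :
    topologicalKrullDim Y ≤ topologicalKrullDim X := by
  letI := specializationOrder X
  letI := specializationOrder Y
  rw [topologicalKrullDim_eq_krullDim, topologicalKrullDim_eq_krullDim]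
  refine iSup_le fun p => ?_
  obtain ⟨x, hx⟩ := hs p.head
  calc (p.length : WithBot ℕ∞) ≤ (Order.coheight p.head : WithBot ℕ∞) := by
        exact WithBot.coe_le_coe.mpr Order.length_le_coheight_head
    _ ≤ (Order.coheight x : WithBot ℕ∞) := by
        rw [← hx]; exact WithBot.coe_le_coe.mpr (coheight_le_of_generalizingMap hf hg x)
    _ ≤ Order.krullDim X := Order.coheight_le_krullDim x

theorem localDim_eq_of_isOpenMap {f : X → Y} (hf : Continuous f) (ho : IsOpenMap f)
    (hgen : GeneralizingMap f)
    (hd : ∀ a b, a ⤳ b → f a = f b → a = b) (x : X) :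
    FlatMor.localDim Y (f x) = FlatMor.localDim X x := by
  have hsub : ∀ (U : Opens X), GeneralizingMap (fun a : U => (⟨f a, a, a.2, rfl⟩ : f '' U)) := by
    intro U a y hy
    have h1 : (y : Y) ⤳ f a := hy.map continuous_subtype_val
    obtain ⟨a', ha', hay⟩ := hgen h1
    refine ⟨⟨a', Specializes.mem_open ha' U.2 a.2⟩, ?_, Subtype.ext hay⟩
    simpa [subtype_specializes_iff] using ha'
  have qs : ∀ {T : Type u} [TopologicalSpace T] [QuasiSober T] (U : Set T), IsOpen U → QuasiSober U :=
    fun U hU => hU.isOpenEmbedding_subtypeVal.quasiSober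
  have mapsto : ∀ (U : Opens X) (V : Opens Y), Set.MapsTo f U V →
      topologicalKrullDim (U : Set X) ≤ topologicalKrullDim (V : Set Y) := by
    intro U V h
    haveI := qs (U : Set X) U.2
    haveI := qs (V : Set Y) V.2
    refine topologicalKrullDim_le_of_injOn (hf.restrict h) fun a b hab he => Subtype.ext ?_
    exact hd _ _ (hab.map continuous_subtype_val) (congrArg Subtype.val he)
  unfold FlatMor.localDim
  refine le_antisymm (le_iInf fun U => ?_) (le_iInf fun V => ?_)
  · refine iInf_le_of_le ⟨⟨f '' (U.1 : Set X), ho _ U.1.2⟩, x, U.2, rfl⟩ ?_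
    haveI := qs (U.1 : Set X) U.1.2
    haveI := qs (f '' (U.1 : Set X)) (ho _ U.1.2)
    refine topologicalKrullDim_le_of_surjective
      (f := fun a : (U.1 : Set X) => (⟨f a, a, a.2, rfl⟩ : f '' (U.1 : Set X)))
      (by fun_prop) (hsub U.1) ?_
    rintro ⟨_, a, ha, rfl⟩; exact ⟨⟨a, ha⟩, rfl⟩
  · exact iInf_le_of_le ⟨⟨f ⁻¹' (V.1 : Set Y), V.1.2.preimage hf⟩, V.2⟩ (mapsto _ _ (Set.mapsTo_preimage f _))

end Dim

theorem eq_of_specializes_of_discrete {X Y : Scheme.{u}} (f : X ⟶ Y) [LocallyQuasiFinite f]
    (a b : X) (h : a ⤳ b) (he : f a = f b) : a = b := by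
  have hdisc : DiscreteTopology (f ⁻¹' {f a}) :=
    isDiscrete_iff_discreteTopology.mp (f.isDiscrete_preimage_singleton (f a))
  have : (⟨a, rfl⟩ : f ⁻¹' {f a}) ⤳ ⟨b, he.symm⟩ := by rw [subtype_specializes_iff]; exact h
  exact congrArg Subtype.val this.eq

theorem localDim_eq_of_etale {X Y : Scheme.{u}} (f : X ⟶ Y) [Etale f] (x : X) :
    FlatMor.localDim Y (f x) = FlatMor.localDim X x := by
  haveI := GrothLib.EtBasicB.locallyQuasiFinite_of_unramified f
  exact localDim_eq_of_isOpenMap f.continuous f.isOpenMap (Flat.generalizingMap f)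
    (eq_of_specializes_of_discrete f) x

theorem trdeg_eq_of_algebraic {K K' L L' : Type u} [Field K] [Field K'] [Field L] [Field L']
    (i : K →+* L) (i' : K' →+* L') (f : K →+* K') (g : L →+* L') (hc : i'.comp f = g.comp i)
    (hf : f.Finite) (hg : g.Finite) :
    @Algebra.trdeg K L _ _ i.toAlgebra = @Algebra.trdeg K' L' _ _ i'.toAlgebra := by
  algebraize [i, i', f, g, i'.comp f]
  haveI : IsScalarTower K L L' := .of_algebraMap_eq' hc
  haveI : Module.Finite L L' := hg
  haveI : Module.Finite K K' := hf
  have h1 := trdeg_add_eq K K' (A := L')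
  have h2 := trdeg_add_eq K L (A := L')
  rw [trdeg_eq_zero, zero_add] at h1
  rw [trdeg_eq_zero (R := L) (A := L'), add_zero] at h2
  exact h2.trans h1.symm

theorem trdeg_eq {U U' V V' : Scheme.{u}} (h : U ⟶ V) (h' : U' ⟶ V') (a : U' ⟶ U)
    (b : V' ⟶ V) [Etale a] [Etale b] (comm : h' ≫ b = a ≫ h) (u' : U') :
    @Algebra.trdeg (V.residueField (h (a u'))) (U.residueField (a u')) _ _
        (h.residueFieldMap (a u')).hom.toAlgebra =
      @Algebra.trdeg (V'.residueField (h' u')) (U'.residueField u') _ _
        (h'.residueFieldMap u').hom.toAlgebra := by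
  haveI := GrothLib.EtBasicB.locallyQuasiFinite_of_unramified a
  haveI := GrothLib.EtBasicB.locallyQuasiFinite_of_unramified b
  have hh : h (a u') = b (h' u') := congr($comm.symm u')
  refine trdeg_eq_of_algebraic _ _
    ((V.residueFieldCongr hh).hom ≫ b.residueFieldMap (h' u')).hom
    (a.residueFieldMap u').hom ?_ ?_ (GrothLib.Weight.finite_residueFieldMap a u')
  · rw [← CommRingCat.hom_comp, ← CommRingCat.hom_comp]
    congr 1
    have key := Scheme.Hom.residueFieldMap_congr comm.symm u'
    rw [Scheme.residueFieldMap_comp, Scheme.residueFieldMap_comp] at key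
    rw [key, Category.assoc]; rfl
  · rw [CommRingCat.hom_comp]
    exact (GrothLib.Weight.finite_residueFieldMap b _).comp
      (RingHom.Finite.of_surjective _
        (ConcreteCategory.bijective_of_isIso (V.residueFieldCongr hh).hom).surjective)

end GrothLib.EtFibre
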